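import Groth.Agent.Sga7.H116.L1
import Groth.Agent.Sga3.H778.NeutralOpen
import Groth.Agent.Sga3C.LocConn
import Groth.Agent.Models.DVRGeneric
import Groth.Agent.S3036
import Groth.Prelude.Def_Red
import Mathlib.RingTheory.Flat.TorsionFree

/-!
# The schematic closure of the generic fibre of a subgroup over a discrete valuation ring

* `isPullback_image` : a closed subscheme of the generic fibre is the generic fibre of its schematic closure;
* `flat_of_schemeDominant` : a scheme over a Dedekind domain whose generic fibre is schematically dense is flat;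
* `exists_flat_closure` : `u : G ⟶ H` a monomorphism of group schemes over a discrete valuation ring, `G` flat of
  finite type, `H` locally of finite type: `u` factors as `G ⟶ N ⟶ H` with `N` a flat closed subgroup scheme of `H`
  and `G ⟶ N` an isomorphism on generic fibres;
* `exists_connected_closure` : if the fibres of `G` are connected, there is such a factorisation with `N ⟶ H` an
  immersion, `N` flat, separated, of finite presentation with connected fibres.
-/

set_option autoImplicit false
universe u

open CategoryTheory CategoryTheory.Limits AlgebraicGeometry MonObj MonoidalCategory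
  CartesianMonoidalCategory GrpObj

namespace Groth.Agent.Sga3.H280.FlatClosure

open Groth.Agent.Sga7.H116.L1 Groth.Agent.Sga3C.SchemImage

/-- A closed subscheme of the base change of `Y` along a flat quasi-compact monomorphism `g` is the base change of
its schematic closure in `Y`. -/
theorem isPullback_image {S T X Y : Scheme.{u}} (g : T ⟶ S) [Flat g] [Mono g] [QuasiCompact g]
    (y : Y ⟶ S) (p : X ⟶ T) (j : X ⟶ Y) (hj : j ≫ y = p ≫ g)
    [IsClosedImmersion (pullback.lift j p hj)] :
    IsPullback j.toImage p (j.imageι ≫ y) g := by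
  have hqc : QuasiCompact j := by
    rw [← pullback.lift_fst j p hj]
    infer_instance
  have hw : j.toImage ≫ j.imageι ≫ y = p ≫ g := by
    rw [Scheme.Hom.toImage_imageι_assoc, hj]
  have hdom : IsSchemeTheoreticallyDominant j.toImage := dominant_toImage j
  let c : X ⟶ pullback (j.imageι ≫ y) g := pullback.lift j.toImage p hw
  have hc1 : c ≫ pullback.fst (j.imageι ≫ y) g = j.toImage := pullback.lift_fst _ _ _
  have hc2 : c ≫ pullback.snd (j.imageι ≫ y) g = p := pullback.lift_snd _ _ _
  have hmono : Mono (pullback.fst (j.imageι ≫ y) g) := inferInstance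
  -- the square with the identity of `X`
  have hsq : IsPullback (𝟙 X) c j.toImage (pullback.fst (j.imageι ≫ y) g) := by
    refine ⟨⟨by rw [Category.id_comp, hc1]⟩, ⟨PullbackCone.IsLimit.mk _ (fun s => s.fst) ?_ ?_ ?_⟩⟩
    · intro s; simp
    · intro s
      rw [← cancel_mono (pullback.fst (j.imageι ≫ y) g), Category.assoc, hc1, s.condition]
    · intro s m h1 h2
      simpa using h1
  have hcdom : IsSchemeTheoreticallyDominant c := .of_isPullback hsq
  -- closed immersion
  let d : pullback (j.imageι ≫ y) g ⟶ pullback y g :=
    pullback.lift (pullback.fst _ _ ≫ j.imageι) (pullback.snd _ _) (by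
      rw [Category.assoc, pullback.condition])
  have hd1 : d ≫ pullback.fst y g = pullback.fst _ _ ≫ j.imageι := pullback.lift_fst _ _ _
  have hd2 : d ≫ pullback.snd y g = pullback.snd _ _ := pullback.lift_snd _ _ _
  have hdsq : IsPullback (pullback.fst (j.imageι ≫ y) g) d j.imageι (pullback.fst y g) := by
    refine IsPullback.of_bot ?_ hd1.symm (IsPullback.of_hasPullback y g)
    rw [hd2]
    exact IsPullback.of_hasPullback (j.imageι ≫ y) g
  have hdci : IsClosedImmersion d := MorphismProperty.of_isPullback hdsq inferInstance
  have hcd : c ≫ d = pullback.lift j p hj := by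
    apply pullback.hom_ext
    · rw [Category.assoc, hd1, reassoc_of% hc1, Scheme.Hom.toImage_imageι, pullback.lift_fst]
    · rw [Category.assoc, hd2, hc2, pullback.lift_snd]
  have hcci : IsClosedImmersion c := by
    have : IsClosedImmersion (c ≫ d) := by rw [hcd]; infer_instance
    exact IsClosedImmersion.of_comp_isClosedImmersion c d
  have hciso : IsIso c := IsClosedImmersion.isIso_iff_ker_eq_bot.mpr hcdom.ker_eq_bot
  exact IsPullback.of_iso_pullback ⟨hw⟩ (asIso c) hc1 hc2

/-- A scheme over a Dedekind domain which receives a schematically dominant morphism from a scheme over the fraction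
field is flat. -/
theorem flat_of_schemeDominant {R : Type u} [CommRing R] [IsDedekindDomain R] {K : Type u} [Field K]
    [Algebra R K] [IsFractionRing R K] {X Y : Scheme.{u}} (t : X ⟶ Y) [QuasiCompact t]
    [IsSchemeTheoreticallyDominant t] (q : Y ⟶ Spec (CommRingCat.of R)) (p : X ⟶ Spec (CommRingCat.of K))
    (h : t ≫ q = p ≫ gen R K) : Flat q := by
  refine (IsZariskiLocalAtSource.iff_of_openCover (P := @Flat) Y.affineCover).2 fun i => ?_
  obtain ⟨A, hA⟩ : ∃ A : CommRingCat.{u}, Y.affineCover.X i = Spec A := ⟨_, rfl⟩
  have key : ∀ (A : CommRingCat.{u}) (j : Spec A ⟶ Y) [IsOpenImmersion j], Flat (j ≫ q) := by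
    intro A j _
    obtain ⟨ψ, hψ⟩ := Spec.map_surjective (j ≫ q)
    rw [← hψ, Flat.SpecMap_iff]
    let _ : Algebra R A := ψ.hom.toAlgebra
    change Module.Flat R A
    let t' : pullback t j ⟶ Spec A := pullback.snd t j
    have ht' : IsSchemeTheoreticallyDominant t' :=
      inferInstanceAs (IsSchemeTheoreticallyDominant (pullback.snd t j))
    have hinj : Function.Injective t'.appTop := t'.app_injective ⊤
    have hsq : t' ≫ Spec.map ψ = (pullback.fst t j ≫ p) ≫ gen R K := by
      rw [hψ, Category.assoc, ← h, ← pullback.condition_assoc]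
    have hring : ∀ r : R, t'.appTop ((Scheme.ΓSpecIso A).inv (ψ.hom r)) =
        ((pullback.fst t j ≫ p).appTop ((Scheme.ΓSpecIso (CommRingCat.of K)).inv (algebraMap R K r))) := by
      intro r
      have h1 := congrArg (fun f => f.appTop ((Scheme.ΓSpecIso (CommRingCat.of R)).inv r)) hsq
      simp only [Scheme.Hom.comp_appTop, ConcreteCategory.comp_apply] at h1
      have h2 : (Spec.map ψ).appTop ((Scheme.ΓSpecIso (CommRingCat.of R)).inv r) =
          (Scheme.ΓSpecIso A).inv (ψ.hom r) := by
        rw [← ConcreteCategory.comp_apply, ← Scheme.ΓSpecIso_inv_naturality]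
        rfl
      have h3 : (gen R K).appTop ((Scheme.ΓSpecIso (CommRingCat.of R)).inv r) =
          (Scheme.ΓSpecIso (CommRingCat.of K)).inv (algebraMap R K r) := by
        rw [← ConcreteCategory.comp_apply, ← Scheme.ΓSpecIso_inv_naturality]
        rfl
      rw [h2, h3] at h1
      rw [h1, Scheme.Hom.comp_appTop]
      rfl
    have htf : Module.IsTorsionFree R A := by
      refine .of_smul_eq_zero fun r a hra => ?_
      by_contra hcon
      push Not at hcon
      obtain ⟨hr, ha⟩ := hcon
      have hu : IsUnit (t'.appTop ((Scheme.ΓSpecIso A).inv (ψ.hom r))) := by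
        rw [hring]
        refine ((IsUnit.mk0 (algebraMap R K r) ?_).map _).map _
        exact (map_ne_zero_iff _ (IsFractionRing.injective R K)).mpr hr
      have h0 : ψ.hom r * a = 0 := hra
      have h1 : t'.appTop ((Scheme.ΓSpecIso A).inv (ψ.hom r)) *
          t'.appTop ((Scheme.ΓSpecIso A).inv a) = 0 := by
        rw [← map_mul, ← map_mul, h0, map_zero, map_zero]
      have h2 := hu.mul_right_eq_zero.mp h1
      have h3 : (Scheme.ΓSpecIso A).inv a = 0 := hinj (by rw [h2, map_zero])
      have h4 : (Scheme.ΓSpecIso A).hom ((Scheme.ΓSpecIso A).inv a) = 0 := by rw [h3, map_zero]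
      rw [← ConcreteCategory.comp_apply, Iso.inv_hom_id] at h4
      exact ha h4
    infer_instance
  rw [show Y.affineCover.f i ≫ q = eqToHom hA ≫ (eqToHom hA.symm ≫ Y.affineCover.f i) ≫ q by simp]
  have := key A (eqToHom hA.symm ≫ Y.affineCover.f i)
  infer_instance

theorem isPullback_map_left {S T : Scheme.{u}} (g : T ⟶ S) {X Y : Over S} (f : X ⟶ Y) :
    IsPullback ((Over.pullback g).map f).left (pullback.fst X.hom g) (pullback.fst Y.hom g) f.left := by
  have h3 : ((Over.pullback g).map f).left ≫ pullback.fst Y.hom g = pullback.fst X.hom g ≫ f.left :=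
    pullback.lift_fst _ _ _
  have h4 : ((Over.pullback g).map f).left ≫ pullback.snd Y.hom g = pullback.snd X.hom g :=
    pullback.lift_snd _ _ _
  have h6 := (IsPullback.of_hasPullback X.hom g).flip
  have h7 := (IsPullback.of_hasPullback Y.hom g).flip
  refine IsPullback.of_right ?_ h3 h7
  rw [h4, Over.w f]
  exact h6

section closure

variable (R K : Type u) [CommRing R] [IsDomain R] [IsDiscreteValuationRing R] [Field K] [Algebra R K]
  [IsFractionRing R K]

set_option backward.isDefEq.respectTransparency false in
/-- Let `u : G ⟶ H` be a monomorphism of group schemes over a discrete valuation ring, `G` flat and of finite type,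
`H` locally of finite type. Then `u` factors through a flat closed subgroup scheme `N` of `H` with the same generic
fibre as `G`. -/
theorem exists_flat_closure (G H : Over (Spec (CommRingCat.of R))) [GrpObj G] [GrpObj H] [Flat G.hom]
    [LocallyOfFiniteType G.hom] [QuasiCompact G.hom] [LocallyOfFiniteType H.hom] (u : G ⟶ H) [IsMonHom u]
    [Mono u] :
    ∃ (N : Over (Spec (CommRingCat.of R))) (_ : GrpObj N) (i : N ⟶ H) (v : G ⟶ N), IsMonHom i ∧
      IsClosedImmersion i.left ∧ Flat N.hom ∧ IsMonHom v ∧ v ≫ i = u ∧
      IsIso ((Over.pullback (gen R K)).map v) := by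
  -- the generic fibre of `u` is a closed immersion
  let uK : Red.bc (gen R K) G ⟶ Red.bc (gen R K) H := (Over.pullback (gen R K)).map u
  have hmonK : IsMonHom uK := inferInstanceAs (IsMonHom ((Over.pullback (gen R K)).map u))
  have hmK : Mono uK := inferInstanceAs (Mono ((Over.pullback (gen R K)).map u))
  have hGft : LocallyOfFiniteType (Red.bc (gen R K) G).hom :=
    inferInstanceAs (LocallyOfFiniteType (pullback.snd G.hom (gen R K)))
  have hHft : LocallyOfFiniteType (Red.bc (gen R K) H).hom :=
    inferInstanceAs (LocallyOfFiniteType (pullback.snd H.hom (gen R K)))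
  have hGqc : QuasiCompact (Red.bc (gen R K) G).hom :=
    inferInstanceAs (QuasiCompact (pullback.snd G.hom (gen R K)))
  have hln : IsLocallyNoetherian (Red.bc (gen R K) G).left :=
    LocallyOfFiniteType.isLocallyNoetherian (Red.bc (gen R K) G).hom
  have hcs : CompactSpace (Red.bc (gen R K) G).left := by
    have h1 := QuasiCompact.isCompact_preimage (f := (Red.bc (gen R K) G).hom) Set.univ isOpen_univ
      isCompact_univ
    rw [Set.preimage_univ] at h1
    exact isCompact_univ_iff.mp h1
  have hnoeth : IsNoetherian (Red.bc (gen R K) G).left := ⟨⟩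
  have hqcK : QuasiCompact uK.left := inferInstance
  have hclK : IsClosedImmersion uK.left := Groth.Agent.S3036.result K _ _ uK
  -- the schematic closure
  let c : pullback G.hom (gen R K) ⟶ G.left := pullback.fst G.hom (gen R K)
  let p : pullback G.hom (gen R K) ⟶ Spec (CommRingCat.of K) := pullback.snd G.hom (gen R K)
  let j : pullback G.hom (gen R K) ⟶ H.left := c ≫ u.left
  have hj : j ≫ H.hom = p ≫ gen R K := by
    simp only [j, Category.assoc, Over.w u]
    exact pullback.condition
  have hlift : pullback.lift j p hj = uK.left := by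
    apply pullback.hom_ext
    · rw [pullback.lift_fst]
      exact (pullback.lift_fst _ _ _).symm
    · rw [pullback.lift_snd]
      exact (pullback.lift_snd _ _ _).symm
  have hcl : IsClosedImmersion (pullback.lift j p hj) := by rw [hlift]; exact hclK
  have hpb := isPullback_image (gen R K) H.hom p j hj
  have hjqc : QuasiCompact j := by
    rw [← pullback.lift_fst j p hj]
    infer_instance
  let N : Over (Spec (CommRingCat.of R)) := Over.mk (j.imageι ≫ H.hom)
  let i : N ⟶ H := Over.homMk j.imageι rfl
  have hi : IsClosedImmersion i.left := inferInstanceAs (IsClosedImmersion j.imageι)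
  have him : Mono i := (Over.forget _).mono_of_mono_map (inferInstanceAs (Mono j.imageι))
  let GK : Over (Spec (CommRingCat.of R)) := Over.mk (c ≫ G.hom)
  let c' : GK ⟶ G := Over.homMk c rfl
  let t : GK ⟶ N := Over.homMk j.toImage (by
    change j.toImage ≫ j.imageι ≫ H.hom = c ≫ G.hom
    rw [Scheme.Hom.toImage_imageι_assoc]
    simp only [j, Category.assoc, Over.w u])
  have htdom : IsSchemeTheoreticallyDominant t.left := dominant_toImage j
  have htqc : QuasiCompact t.left := inferInstanceAs (QuasiCompact j.toImage)
  have hcdom : IsSchemeTheoreticallyDominant c'.left :=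
    inferInstanceAs (IsSchemeTheoreticallyDominant (pullback.fst G.hom (gen R K)))
  have hjdom : IsSchemeTheoreticallyDominant j.toImage := htdom
  have hNflat : Flat N.hom := flat_of_schemeDominant (K := K) j.toImage N.hom p hpb.w
  have hGKflat : Flat GK.hom := by
    change Flat (pullback.fst G.hom (gen R K) ≫ G.hom)
    infer_instance
  have hti : t ≫ i = c' ≫ u := by
    ext1
    exact Scheme.Hom.toImage_imageι j
  -- the homomorphism from `G`
  obtain ⟨v, hv⟩ := exists_lift_over c' u i t hti
  have hcv : c' ≫ v = t := by
    rw [← cancel_mono i, Category.assoc, hv, hti]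
  -- the group structure
  have hone : ∃ e : 𝟙_ (Over (Spec (CommRingCat.of R))) ⟶ N, e ≫ i = η[H] :=
    ⟨η[G] ≫ v, by rw [Category.assoc, hv, IsMonHom.one_hom]⟩
  have hmul : ∃ m : N ⊗ N ⟶ N, m ≫ i = (i ⊗ₘ i) ≫ μ[H] := by
    have hdom : IsSchemeTheoreticallyDominant (t ⊗ₘ t).left := by
      rw [MonoidalCategory.tensorHom_def, Over.comp_left]
      have h1 := dominant_whiskerRight t GK
      have h2 := dominant_whiskerLeft t N
      have h3 := quasiCompact_whiskerRight t GK
      exact MorphismProperty.comp_mem _ _ _ h1 h2
    refine exists_lift_over (t ⊗ₘ t) ((i ⊗ₘ i) ≫ μ[H]) i ((c' ⊗ₘ c') ≫ μ[G] ≫ v) ?_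
    rw [Category.assoc, Category.assoc, hv, IsMonHom.mul_hom, tensorHom_comp_tensorHom_assoc,
      tensorHom_comp_tensorHom_assoc, hti]
  have hinv : ∃ w : N ⟶ N, w ≫ i = i ≫ ι[H] := by
    refine exists_lift_over t (i ≫ ι[H]) i (c' ≫ ι[G] ≫ v) ?_
    rw [Category.assoc, Category.assoc, hv, reassoc_of% hti, GrpObj.inv_hom u]
  obtain ⟨hgrp, hmon⟩ := Sga3C.SubGrp.exists_grpObj_of_mono i hmul hone hinv
  have hvi : IsMonHom (v ≫ i) := by rw [hv]; infer_instance
  have hvm : IsMonHom v := Sga3C.SubGrp.isMonHom_of_comp_mono v i
  refine ⟨N, hgrp, i, v, hmon, hi, hNflat, hvm, hv, ?_⟩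
  have hvK : IsIso ((Over.pullback (gen R K)).map v).left := by
    have h1 : ((Over.pullback (gen R K)).map v).left =
        (hpb.isoPullback).hom := by
      apply pullback.hom_ext
      · refine Eq.trans ?_ hpb.isoPullback_hom_fst.symm
        refine (pullback.lift_fst _ _ _).trans ?_
        exact congrArg (fun f => f.left) hcv
      · refine Eq.trans ?_ hpb.isoPullback_hom_snd.symm
        exact (pullback.lift_snd _ _ _)
    rw [h1]
    infer_instance
  have : IsIso ((Over.forget _).map ((Over.pullback (gen R K)).map v)) := hvK
  exact isIso_of_reflects_iso _ (Over.forget _)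

open Groth.Agent.Sga3.H778 NeutralPts NeutralOpen

/-- A homomorphism from a group scheme with connected fibres factors through the neutral set. -/
theorem mem_neutralSet_of_connected {S : Scheme.{u}} (G N : Over S) [GrpObj G] [GrpObj N]
    (hconn : ∀ s : S, _root_.IsConnected (G.hom.base ⁻¹' {s})) (v : G ⟶ N) [IsMonHom v] (x : G.left) :
    v.left x ∈ SGA3x.neutralSet N := by
  rw [neutralSet_eq]
  change _ ∈ connectedComponentIn _ _
  have hvx : ∀ y : G.left, N.hom (v.left y) = G.hom y := fun y => by
    rw [← Scheme.Hom.comp_apply, Over.w v]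
  have hunit : v.left (unitSec G (G.hom x)) = unitSec N (G.hom x) := by
    rw [← Scheme.Hom.comp_apply]
    have h1 : η[G] ≫ v = η[N] := IsMonHom.one_hom v
    have h2 : unitSec G ≫ v.left = unitSec N := congrArg (fun f => f.left) h1
    rw [h2]
  rw [hvx]
  have h1 : _root_.IsPreconnected (v.left '' (G.hom ⁻¹' {G.hom x})) :=
    (hconn (G.hom x)).2.image _ v.left.continuous.continuousOn
  refine h1.subset_connectedComponentIn ?_ ?_ ⟨x, rfl, rfl⟩
  · exact ⟨unitSec G (G.hom x), hom_unitSec G _, hunit⟩
  · rintro _ ⟨y, hy, rfl⟩
    change N.hom (v.left y) = G.hom x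
    rw [hvx]
    exact hy

/-- The part of a fibre of a locally Noetherian scheme outside the connected component of a point is closed, if
the fibre is closed and locally Noetherian. -/
theorem isClosed_fibre_diff {X S : Scheme.{u}} (f : X ⟶ S) (s : S) (hs : IsClosed ({s} : Set S))
    [IsLocallyNoetherian (f.fiber s)] (e : X) (he : f e = s) :
    IsClosed ((f ⁻¹' {s}) \ connectedComponentIn (f ⁻¹' {s}) e) := by
  have hemb : Topology.IsClosedEmbedding (f.fiberι s) := by
    refine ⟨(f.fiberι s).isEmbedding, ?_⟩
    rw [Scheme.Hom.range_fiberι]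
    exact hs.preimage f.continuous
  have hlc : LocallyConnectedSpace (f.fiber s) :=
    Sga3C.LocConn.locallyConnectedSpace_of_isLocallyNoetherian _
  obtain ⟨e', he'⟩ : ∃ e', f.fiberι s e' = e := by
    have : e ∈ Set.range (f.fiberι s) := by
      rw [Scheme.Hom.range_fiberι]; exact he
    exact this
  have h1 : IsOpen (connectedComponent e') := isOpen_connectedComponent
  have h2 : (f ⁻¹' {s}) \ connectedComponentIn (f ⁻¹' {s}) e =
      f.fiberι s '' (connectedComponent e')ᶜ := by
    have h3 : f.fiberι s '' connectedComponent e' = connectedComponentIn (f ⁻¹' {s}) e := by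
      apply Set.Subset.antisymm
      · refine (isPreconnected_connectedComponent.image _
          (f.fiberι s).continuous.continuousOn).subset_connectedComponentIn ?_ ?_
        · exact ⟨e', mem_connectedComponent, he'⟩
        · rw [← Scheme.Hom.range_fiberι]
          exact Set.image_subset_range _ _
      · have h4 : connectedComponentIn (f ⁻¹' {s}) e ⊆ Set.range (f.fiberι s) := by
          rw [Scheme.Hom.range_fiberι]
          exact connectedComponentIn_subset _ _
        have h5 : f.fiberι s '' (f.fiberι s ⁻¹' connectedComponentIn (f ⁻¹' {s}) e) =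
            connectedComponentIn (f ⁻¹' {s}) e := Set.image_preimage_eq_of_subset h4
        have h6 : _root_.IsPreconnected (f.fiberι s ⁻¹' connectedComponentIn (f ⁻¹' {s}) e) := by
          rw [← hemb.isInducing.isPreconnected_image, h5]
          exact isPreconnected_connectedComponentIn
        rw [← h5]
        refine Set.image_mono (h6.subset_connectedComponent ?_)
        change f.fiberι s e' ∈ connectedComponentIn (f ⁻¹' {s}) e
        rw [he']
        exact mem_connectedComponentIn he
    rw [Set.compl_eq_univ_sdiff, Set.image_sdiff hemb.injective, h3, Set.image_univ,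
      Scheme.Hom.range_fiberι]
  rw [h2]
  exact hemb.isClosedMap _ h1.isClosed_compl

set_option backward.isDefEq.respectTransparency false in
/-- Let `u : G ⟶ H` be a monomorphism of group schemes over a discrete valuation ring, `G` flat of finite type with
connected fibres, `H` locally of finite type. Then `u` factors through an immersed subgroup scheme `N` of `H`, flat,
separated and of finite presentation with connected fibres, with the same generic fibre as `G`. -/
theorem exists_connected_closure (G H : Over (Spec (CommRingCat.of R))) [GrpObj G] [GrpObj H] [Flat G.hom]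
    [LocallyOfFiniteType G.hom] [QuasiCompact G.hom] [LocallyOfFiniteType H.hom] (u : G ⟶ H) [IsMonHom u]
    [Mono u] (hconn : ∀ s : Spec (CommRingCat.of R), _root_.IsConnected (G.hom.base ⁻¹' {s})) :
    ∃ (N : Over (Spec (CommRingCat.of R))) (_ : GrpObj N) (i : N ⟶ H) (v : G ⟶ N), IsMonHom i ∧
      IsImmersion i.left ∧ Flat N.hom ∧ LocallyOfFinitePresentation N.hom ∧ QuasiCompact N.hom ∧
      IsSeparated N.hom ∧ (∀ s : Spec (CommRingCat.of R), _root_.IsConnected (N.hom.base ⁻¹' {s})) ∧
      IsMonHom v ∧ v ≫ i = u ∧ IsIso ((Over.pullback (gen R K)).map v) := by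
  obtain ⟨N, hN, i, v, hi1, hi2, hfl, hv1, hv2, hv3⟩ := exists_flat_closure R K G H u
  have hNft : LocallyOfFiniteType N.hom := by
    rw [← Over.w i]; infer_instance
  have hNfp : LocallyOfFinitePresentation N.hom := inferInstance
  -- the neutral set is open
  have hmem : ∀ x : G.left, v.left x ∈ SGA3x.neutralSet N := mem_neutralSet_of_connected G N hconn v
  let s0 : Spec (CommRingCat.of R) := IsLocalRing.closedPoint R
  have hs0 : IsClosed ({s0} : Set (Spec (CommRingCat.of R))) := IsLocalRing.isClosed_singleton_closedPoint R
  have hgen : ∀ x : N.left, N.hom x ≠ s0 → x ∈ SGA3x.neutralSet N := by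
    intro x hx
    have h1 : x ∈ Set.range (pullback.fst N.hom (gen R K)) := by
      rw [Scheme.Pullback.range_fst]
      exact Models.DVRGeneric.range_generic R K _ hx
    obtain ⟨y, rfl⟩ := h1
    have hvK : IsIso ((Over.pullback (gen R K)).map v).left :=
      inferInstanceAs (IsIso ((Over.forget _).map ((Over.pullback (gen R K)).map v)))
    obtain ⟨z, rfl⟩ := (inferInstance : Surjective ((Over.pullback (gen R K)).map v).left).surj y
    have h2 : ((Over.pullback (gen R K)).map v).left ≫ pullback.fst N.hom (gen R K) =
        pullback.fst G.hom (gen R K) ≫ v.left := pullback.lift_fst _ _ _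
    have h3 : pullback.fst N.hom (gen R K) (((Over.pullback (gen R K)).map v).left z) =
        v.left (pullback.fst G.hom (gen R K) z) := by
      have := congrArg (fun f : ((Over.pullback (gen R K)).obj G).left ⟶ N.left => f z) h2
      exact this
    rw [h3]
    exact hmem _
  have hlnf : IsLocallyNoetherian (N.hom.fiber s0) :=
    have : LocallyOfFiniteType (N.hom.fiberToSpecResidueField s0) :=
      inferInstanceAs (LocallyOfFiniteType (pullback.snd _ _))
    LocallyOfFiniteType.isLocallyNoetherian (N.hom.fiberToSpecResidueField s0)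
  have hopen : IsOpen (SGA3x.neutralSet N) := by
    have hcl := isClosed_fibre_diff N.hom s0 hs0 (unitSec N s0) (hom_unitSec N s0)
    rw [← isClosed_compl_iff]
    convert hcl using 1
    ext x
    simp only [Set.mem_compl_iff, Set.mem_sdiff]
    constructor
    · intro hx
      have h1 : N.hom x = s0 := by
        by_contra hcon
        exact hx (hgen x hcon)
      refine ⟨h1, fun h2 => hx ?_⟩
      rw [neutralSet_eq]
      change _ ∈ connectedComponentIn _ _
      rw [h1]
      exact h2
    · rintro ⟨h1, h2⟩ hx
      rw [neutralSet_eq] at hx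
      change _ ∈ connectedComponentIn _ _ at hx
      have h1' : N.hom x = s0 := h1
      rw [h1'] at hx
      exact h2 hx
  obtain ⟨hgrp, hmon⟩ := exists_grpObj N hopen
  have hc := isConnected_fibre N hopen
  obtain ⟨v0, hv0⟩ := exists_lift (neutral N hopen) v hmem
  have hfl0 : Flat (opn N (neutral N hopen)).hom := by
    change Flat ((neutral N hopen).ι ≫ N.hom)
    infer_instance
  have hfp0 : LocallyOfFinitePresentation (opn N (neutral N hopen)).hom := by
    change LocallyOfFinitePresentation ((neutral N hopen).ι ≫ N.hom)
    infer_instance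
  have hsq := Groth.Agent.S3025.result _ (opn N (neutral N hopen)) hc
  have hv0m : IsMonHom v0 := by
    have : IsMonHom (v0 ≫ opnι N (neutral N hopen)) := by rw [hv0]; exact hv1
    exact Sga3C.SubGrp.isMonHom_of_comp_mono v0 (opnι N (neutral N hopen))
  refine ⟨opn N (neutral N hopen), hgrp, opnι N (neutral N hopen) ≫ i, v0, inferInstance, ?_, hfl0, hfp0,
    hsq.2, hsq.1, hc, hv0m, ?_, ?_⟩
  · rw [Over.comp_left]
    infer_instance
  · rw [reassoc_of% hv0, hv2]
  · -- the generic fibre
    have h1 : (Over.pullback (gen R K)).map v0 ≫ (Over.pullback (gen R K)).map (opnι N (neutral N hopen)) =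
        (Over.pullback (gen R K)).map v := by
      rw [← Functor.map_comp, hv0]
    have h2 : IsOpenImmersion ((Over.pullback (gen R K)).map (opnι N (neutral N hopen))).left := by
      have h5 := isPullback_map_left (gen R K) (opnι N (neutral N hopen))
      exact MorphismProperty.of_isPullback h5.flip inferInstance
    have h3 : Surjective ((Over.pullback (gen R K)).map (opnι N (neutral N hopen))).left := by
      constructor
      intro y
      have hvK : IsIso ((Over.pullback (gen R K)).map v).left :=
        inferInstanceAs (IsIso ((Over.forget _).map ((Over.pullback (gen R K)).map v)))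
      obtain ⟨z, rfl⟩ := (inferInstance : Surjective ((Over.pullback (gen R K)).map v).left).surj y
      refine ⟨((Over.pullback (gen R K)).map v0).left z, ?_⟩
      rw [← Scheme.Hom.comp_apply, ← Over.comp_left, h1]
    have h4 : IsIso ((Over.pullback (gen R K)).map (opnι N (neutral N hopen))).left :=
      (isIso_iff_isOpenImmersion_and_surjective _).mpr ⟨h2, h3⟩
    have h5 : IsIso ((Over.pullback (gen R K)).map (opnι N (neutral N hopen))) := by
      have : IsIso ((Over.forget _).map ((Over.pullback (gen R K)).map (opnι N (neutral N hopen)))) := h4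
      exact isIso_of_reflects_iso _ (Over.forget _)
    have h6 : IsIso ((Over.pullback (gen R K)).map v0 ≫
        (Over.pullback (gen R K)).map (opnι N (neutral N hopen))) := by rw [h1]; exact hv3
    exact IsIso.of_isIso_comp_right _ ((Over.pullback (gen R K)).map (opnι N (neutral N hopen)))

end closure

end Groth.Agent.Sga3.H280.FlatClosure
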